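import Cfsg.Agent.Lib.Helper18.BT2EPS
import Cfsg.Agent.Lib.Helper18.BT2INNER
import Cfsg.Agent.Lib.helper7.BT2ARITH
import Cfsg.Agent.Lib.helper7.BT2CONG
import Cfsg.Agent.Lib.helper7.BT2NOREM

/-!
# Project BT (S0997), part II (BT2) : the landed pieces (import-only file)
-/
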