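import Mathlib
import Cfsg.Agent.Lib.helper15.PSL.Defs
import Cfsg.Agent.Lib.helper15.BH.Main
import Cfsg.Agent.Lib.helper23.PSLDEGSUM
import Cfsg.Agent.Lib.helper15.BT2.Pieces

/-!
# Project BT (S0997), part II : the degrees in the principal block when `Y` has degree `f + 1` (assembly)
-/

set_option autoImplicit false
set_option linter.unusedVariables false
set_option linter.unusedSectionVars false
open scoped ComplexConjugate
open Classical

namespace Cfsg.Agent.Lib.helper15.BT2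

open Cfsg.Agent.Lib.helper7 Cfsg.Agent.Lib.helper7.BR Cfsg.Agent.Lib.helper2 Cfsg.Agent.Lib.Helper25
  Cfsg.Agent.Lib.Helper29 Cfsg.Agent.Lib.helper15.BH Cfsg.Agent.Lib.helper15.PSL

universe u

variable {G : Type u} [Group G] [Fintype G] {p : ℕ} [Fact p.Prime]

/-- the degree of the trivial character -/
theorem bt2_leoDeg_triv : leoDeg (trivIrr G) = 1 := by
  have h := leoDeg_spec (trivIrr G)
  rw [trivIrr_apply] at h
  exact_mod_cast h.symm

/-- BT part II : the degrees in the principal block -/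
theorem bt2_main (P : Sylow p G) (hP : Nat.card ↥(P : Subgroup G) = p) (f : ℕ)
    (hpf : 2 * f + 1 = p) (hf4 : 4 ≤ f) (hfe : Even f)
    (hlin : ∀ χ : Cfsg.IrrCharacter G, leoDeg χ = 1 → χ = trivIrr G)
    {X Y : Finset (Cfsg.IrrCharacter G)} {a : Cfsg.IrrCharacter G → ℤ} {ε : ℤ}
    (hB0 : PB0 p f (P : Subgroup G) X Y a ε) (θ : Cfsg.IrrCharacter G) (hθY : θ ∈ Y)
    (hθ1 : leoDeg θ = f + 1)
    (hno : ∀ χ : Cfsg.IrrCharacter G, leoDeg χ ≠ 2 * p + 1 ∧ leoDeg χ ≠ 2 * p - 1) :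
    ε = -1 ∧ (∀ η ∈ Y, leoDeg η = f + 1) ∧
    (∀ ξ ∈ X, a ξ = -1 → leoDeg ξ + 1 = p) ∧
    (∀ ξ ∈ X, a ξ = 1 → ξ ≠ trivIrr G → leoDeg ξ = p + 1) ∧
    2 * (Xm X a).card = f ∧ 2 * (Xp X a).card = f := by
  have hpp := (Fact.out : p.Prime)
  obtain ⟨hε, hYdeg⟩ := bt2_eps P hP f hpf (by omega) hB0 θ hθY hθ1
  -- the other member of `Y`
  obtain ⟨u, v, huv, hYuv⟩ := Finset.card_eq_two.mp hB0.cardY
  have hex : ∃ θ' ∈ Y, θ' ≠ θ := by
    rw [hYuv] at hθY ⊢
    rcases Finset.mem_insert.mp hθY with h | h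
    · exact ⟨v, by simp, by rw [h]; exact fun h' => huv h'.symm⟩
    · have h' := Finset.mem_singleton.mp h
      exact ⟨u, by simp, by rw [h']; exact huv⟩
  obtain ⟨θ', hθ'Y, hne⟩ := hex
  set W : G → ℂ := fun g => (θ : G → ℂ) g * conj ((θ : G → ℂ) g) with hWdef
  set W' : G → ℂ := fun g => (θ : G → ℂ) g * conj ((θ' : G → ℂ) g) with hW'def
  have hW : Cfsg.IsCharacter G W :=
    h7_isCharacter_mul (isCharacter_of_irr θ) (bg_isCharacter_conj (isCharacter_of_irr θ))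
  have hW' : Cfsg.IsCharacter G W' :=
    h7_isCharacter_mul (isCharacter_of_irr θ) (bg_isCharacter_conj (isCharacter_of_irr θ'))
  obtain ⟨hinX, hinY, hin1, hin0⟩ := bt2_inner P f hB0 θ θ' hθY hθ'Y hne
  choose mW hmW using fun η : Cfsg.IrrCharacter G =>
    classInner_character_nat hW (isCharacter_of_irr η)
  choose mW' hmW' using fun η : Cfsg.IrrCharacter G =>
    classInner_character_nat hW' (isCharacter_of_irr η)
  have hdiffX : ∀ ξ ∈ X, (mW ξ : ℤ) - (mW' ξ : ℤ) = a ξ := by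
    intro ξ hξ
    have h1 := hinX ξ hξ
    rw [hmW ξ, hmW' ξ] at h1
    have : (((mW ξ : ℤ) - (mW' ξ : ℤ) : ℤ) : ℂ) = ((a ξ : ℤ) : ℂ) := by push_cast; exact h1
    exact_mod_cast this
  have hsumZ : (∑ η ∈ Y, ((mW η : ℤ) - (mW' η : ℤ))) = 1 := by
    have h1 : ((∑ η ∈ Y, ((mW η : ℤ) - (mW' η : ℤ)) : ℤ) : ℂ) = ((1 : ℤ) : ℂ) := by
      push_cast
      have := hinY
      rw [hε] at this
      push_cast at this
      rw [neg_neg] at this
      rw [← this]
      apply Finset.sum_congr rfl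
      intro η _
      rw [hmW η, hmW' η]
    exact_mod_cast h1
  -- a member of `Y` in `W`
  have hexY : ∃ η₀ ∈ Y, mW η₀ ≠ 0 := by
    by_contra hcon
    push Not at hcon
    have h1 : ∑ η ∈ Y, ((mW η : ℤ) - (mW' η : ℤ)) = ∑ η ∈ Y, (-(mW' η : ℤ)) :=
      Finset.sum_congr rfl (fun η hη => by rw [hcon η hη]; simp)
    rw [h1, Finset.sum_neg_distrib] at hsumZ
    have h2 : (0 : ℤ) ≤ ∑ η ∈ Y, (mW' η : ℤ) := Finset.sum_nonneg (fun η _ => by positivity)
    omega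
  obtain ⟨η₀, hη₀Y, hη₀⟩ := hexY
  -- the sign of the trivial character
  have hx : ∃ x ∈ (P : Subgroup G), x ≠ 1 := by
    by_contra hcon
    push Not at hcon
    have hbot : (P : Subgroup G) = ⊥ := by
      rw [Subgroup.eq_bot_iff_forall]
      exact hcon
    rw [hbot] at hP
    simp at hP
    exact hpp.one_lt.ne' hP.symm
  obtain ⟨x, hxP, hx1⟩ := hx
  have hxsing : p ∣ orderOf x := by
    have hpg : IsPGroup p ↥(P : Subgroup G) := P.isPGroup'
    obtain ⟨k, hk⟩ := hpg ⟨x, hxP⟩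
    have hord : orderOf x ∣ p ^ k := by
      have h2 : x ^ (p ^ k) = 1 := by
        have := congrArg Subtype.val hk
        simpa using this
      exact orderOf_dvd_of_pow_eq_one h2
    obtain ⟨j, hj, hjeq⟩ := (Nat.dvd_prime_pow hpp).mp hord
    rcases Nat.eq_zero_or_pos j with h0 | h0
    · rw [h0, pow_zero] at hjeq
      exact absurd (orderOf_eq_one_iff.mp hjeq) hx1
    · rw [hjeq]
      exact dvd_pow_self p h0.ne'
  have ha0 : a (trivIrr G) = 1 := by
    have h1 := hB0.valX (trivIrr G) hB0.triv_mem x hxsing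
    rw [trivIrr_apply] at h1
    have : ((1 : ℤ) : ℂ) = ((a (trivIrr G) : ℤ) : ℂ) := by push_cast; exact h1
    exact_mod_cast this.symm
  -- degrees of `W` and `W'`
  have hθdeg : (θ : G → ℂ) 1 = ((f + 1 : ℕ) : ℂ) := by rw [leoDeg_spec, hθ1]
  have hθ'deg : (θ' : G → ℂ) 1 = ((f + 1 : ℕ) : ℂ) := by rw [leoDeg_spec, hYdeg θ' hθ'Y]
  have hW1 : W 1 = (((f + 1) ^ 2 : ℕ) : ℂ) := by
    rw [hWdef]
    simp only
    rw [hθdeg]
    push_cast
    rw [map_add, map_one, Complex.conj_natCast]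
    ring
  have hW'1 : W' 1 = (((f + 1) ^ 2 : ℕ) : ℂ) := by
    rw [hW'def]
    simp only
    rw [hθdeg, hθ'deg]
    push_cast
    rw [map_add, map_one, Complex.conj_natCast]
    ring
  -- constituents
  have hη₀X : η₀ ∉ X := fun h => (Finset.disjoint_left.mp hB0.disj h) hη₀Y
  have hconW : ∀ ξ ∈ insert η₀ (Xp X a), Cfsg.classInner W (ξ : G → ℂ) ≠ 0 := by
    intro ξ hξ
    rcases Finset.mem_insert.mp hξ with h | h
    · rw [h, hmW η₀]
      exact_mod_cast hη₀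
    · obtain ⟨hξX, haξ⟩ := Finset.mem_filter.mp h
      have h1 := hdiffX ξ hξX
      rw [haξ] at h1
      rw [hmW ξ]
      have : mW ξ ≠ 0 := by omega
      exact_mod_cast this
  have hconW' : ∀ ξ ∈ Xm X a, Cfsg.classInner W' (ξ : G → ℂ) ≠ 0 := by
    intro ξ hξ
    obtain ⟨hξX, haξ⟩ := Finset.mem_filter.mp hξ
    have h1 := hdiffX ξ hξX
    rw [haξ] at h1
    rw [hmW' ξ]
    have : mW' ξ ≠ 0 := by omega
    exact_mod_cast this
  have hsumW := degree_sum_le hW (insert η₀ (Xp X a)) hconW ((f + 1) ^ 2) hW1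
  have hη₀Xp : η₀ ∉ Xp X a := fun h => hη₀X (Finset.mem_filter.mp h).1
  rw [Finset.sum_insert hη₀Xp, hYdeg η₀ hη₀Y] at hsumW
  have hsumW' := degree_sum_le hW' (Xm X a) hconW' ((f + 1) ^ 2) hW'1
  have hnorem := bt2_norem hlin hW' hin0 (Xm X a) hconW' ((f + 1) ^ 2) hW'1
  -- the arithmetic
  have harith := bt2_arith p f hpf hf4 hfe X (trivIrr G) hB0.triv_mem hB0.cardX a hB0.a_pm ha0
    leoDeg bt2_leoDeg_triv
    (fun ξ hξ haξ => ((bt2_cong P hP f hB0 ξ hξ).1 haξ))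
    (fun ξ hξ haξ hξt => by
      obtain ⟨k, hk⟩ := (bt2_cong P hP f hB0 ξ hξ).2 haξ
      refine ⟨k, ?_, hk⟩
      rcases Nat.eq_zero_or_pos k with h0 | h0
      · exfalso
        rw [h0] at hk
        exact hξt (hlin ξ (by omega))
      · exact h0)
    (fun ξ _ => hno ξ)
    (by
      have : ∑ i ∈ X.filter (fun i => a i = 1), leoDeg i = ∑ i ∈ Xp X a, leoDeg i := rfl
      rw [this]; omega)
    hsumW' hnorem
  obtain ⟨h1, h2, h3, h4⟩ := harith
  exact ⟨hε, hYdeg, h1, h2, h3, h4⟩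

end Cfsg.Agent.Lib.helper15.BT2
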