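import Mathlib
import Cfsg.Agent.Lib.helper15.BT2.Main
import Cfsg.Agent.Lib.Helper22.BTKEY
import Cfsg.Agent.Lib.helper2.CharInt

/-!
# Project BT (S0997) : parts II + III glued.  A non-cyclic simple group `G` with `|P| = p = 2 f + 1`,
`C_G(P) = P`, `|N_G(P) : C_G(P)| = f = 2 ^ c ≥ 4`, principal block data `PB0` in which a member of `Y` has
degree `f + 1`, and `|G| = p · 2^b · (f + 1)`, has order `p (p - 1) (p + 1) / 2 = p · 2 f · (f + 1)`.
-/

set_option autoImplicit false
set_option linter.unusedVariables false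
set_option linter.unusedSectionVars false
open scoped ComplexConjugate
open Classical

namespace Cfsg.Agent.Lib.helper15.BT2

open Cfsg.Agent.Lib.helper7 Cfsg.Agent.Lib.helper7.BR Cfsg.Agent.Lib.helper2 Cfsg.Agent.Lib.Helper25
  Cfsg.Agent.Lib.Helper29 Cfsg.Agent.Lib.helper15.BH Cfsg.Agent.Lib.helper15.PSL

universe u

variable {G : Type u} [Group G] [Fintype G] {p : ℕ} [Fact p.Prime]

/-- a non-cyclic simple group has no non-trivial linear character -/
theorem bt2glue_lin [IsSimpleGroup G] (hnc : ¬ IsCyclic G) (χ : Cfsg.IrrCharacter G)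
    (h1 : leoDeg χ = 1) : χ = trivIrr G := by
  have hone : (χ : G → ℂ) 1 = 1 := by
    rw [leoDeg_spec, h1]
    norm_num
  have hcomm : commutator G = ⊤ := by
    rcases (inferInstance : IsSimpleGroup G).eq_bot_or_eq_top_of_normal (commutator G)
      inferInstance with h | h
    · exfalso
      apply hnc
      have hc : Subgroup.center G = ⊤ := (_root_.commutator_eq_bot_iff_center_eq_top (G := G)).mp h
      letI : CommGroup G := Group.commGroupOfCenterEqTop hc
      exact inferInstance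
    · exact h
  apply Subtype.ext
  funext g
  rw [trivIrr_apply]
  exact irr_linear_commutator χ hone (by rw [hcomm]; exact Subgroup.mem_top g)

/-- no irreducible character of degree `2 p ± 1` when `|G| = p · 2^b · (f + 1)`, `p = 2 f + 1` -/
theorem bt2glue_no {f b : ℕ} (hpf : 2 * f + 1 = p) (hf1 : 1 ≤ f)
    (hcard : Nat.card G = p * 2 ^ b * (f + 1)) (χ : Cfsg.IrrCharacter G) :
    leoDeg χ ≠ 2 * p + 1 ∧ leoDeg χ ≠ 2 * p - 1 := by
  have hp : p.Prime := Fact.out
  obtain ⟨n, hn0, hn1, hn2⟩ := irr_degree_dvd_card χ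
  have hn : n = leoDeg χ := by
    have := leoDeg_spec χ
    rw [hn1] at this
    exact_mod_cast this
  rw [hn, hcard] at hn2
  -- an odd number prime to `p` dividing `p 2^b (f+1)` divides `f + 1`
  have key : ∀ d : ℕ, d ∣ p * 2 ^ b * (f + 1) → Nat.Coprime d p → Nat.Coprime d 2 → d ≤ f + 1 := by
    intro d hd h1 h2
    have h3 : d ∣ 2 ^ b * (f + 1) := by
      rw [mul_assoc] at hd
      exact h1.dvd_of_dvd_mul_left hd
    have h4 : d ∣ f + 1 := (Nat.Coprime.pow_right b h2).dvd_of_dvd_mul_left h3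
    exact Nat.le_of_dvd (by omega) h4
  have hp2 : 2 ≤ p := hp.two_le
  have hcop : ∀ d : ℕ, ¬ p ∣ d → Nat.Coprime d p := fun d hd =>
    ((Nat.Prime.coprime_iff_not_dvd hp).mpr hd).symm
  have hodd : ∀ k : ℕ, Nat.Coprime (2 * k + 1) 2 := by
    intro k
    have : Nat.Coprime (1 + 2 * k) 2 := by
      rw [Nat.coprime_add_mul_left_left]
      exact Nat.coprime_one_left 2
    rwa [show 1 + 2 * k = 2 * k + 1 by ring] at this
  constructor
  · intro h
    rw [h] at hn2
    have h1 : Nat.Coprime (2 * p + 1) p := by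
      apply hcop
      intro hd
      have : p ∣ 1 := (Nat.dvd_add_right (dvd_mul_left p 2)).mp hd
      have := Nat.le_of_dvd one_pos this
      omega
    have := key _ hn2 h1 (hodd p)
    omega
  · intro h
    rw [h] at hn2
    have h1 : Nat.Coprime (2 * p - 1) p := by
      apply hcop
      intro hd
      have h' : p ∣ (2 * p - 1) + 1 := by
        rw [show 2 * p - 1 + 1 = 2 * p by omega]
        exact dvd_mul_left p 2
      have : p ∣ 1 := (Nat.dvd_add_right hd).mp h'
      have := Nat.le_of_dvd one_pos this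
      omega
    have h2 : Nat.Coprime (2 * p - 1) 2 := by
      rw [show 2 * p - 1 = 2 * (p - 1) + 1 by omega]
      exact hodd (p - 1)
    have := key _ hn2 h1 h2
    omega

/-- parts II + III of project BT : the order of `G` -/
theorem bt23_order [IsSimpleGroup G] (hnc : ¬ IsCyclic G) [Fintype (Cfsg.IrrCharacter G)]
    {f c b : ℕ} (P : Sylow p G) (hP : Nat.card ↥(P : Subgroup G) = p) (hpf : 2 * f + 1 = p)
    (hrel : (Cfsg.Agent.Lib.helper7.BR.cen P).relIndex (Cfsg.Agent.Lib.helper7.BR.nrm P) = f)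
    (hcen : Nat.card ↥(Cfsg.Agent.Lib.helper7.BR.cen P) = p)
    {X Y : Finset (Cfsg.IrrCharacter G)} {a : Cfsg.IrrCharacter G → ℤ} {ε : ℤ}
    (hB0 : PB0 p f (P : Subgroup G) X Y a ε) (θ : Cfsg.IrrCharacter G) (hθY : θ ∈ Y)
    (hθ1 : leoDeg θ = f + 1)
    (hf : f = 2 ^ c) (hc : 2 ≤ c) (hcard : Nat.card G = p * 2 ^ b * (f + 1)) :
    Nat.card G = p * (2 * f) * (f + 1) := by
  have hf4 : 4 ≤ f := by
    rw [hf]
    calc 4 = 2 ^ 2 := by norm_num
      _ ≤ 2 ^ c := Nat.pow_le_pow_right (by norm_num) hc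
  have hfe : Even f := by
    rw [hf]
    exact (Nat.even_pow' (by omega)).mpr even_two
  obtain ⟨hε, hdegY, hdm, hdp, _, _⟩ := bt2_main P hP f hpf hf4 hfe (bt2glue_lin hnc) hB0 θ hθY hθ1
    (bt2glue_no hpf (by omega) hcard)
  exact Cfsg.Agent.Lib.Helper22.btkey_simple hnc P hP hpf hrel hcen hB0 hε hdegY hdm hdp hf (by omega) hcard

end Cfsg.Agent.Lib.helper15.BT2
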