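import Mathlib
import Cfsg.Agent.Lib.helper15.BT2.Glue
import Cfsg.Agent.Lib.Helper13.BT.Defs

/-!
# Project BT (S0997) : the new case along the route `bt2_main` + `btkey_simple` (backup of `Helper13.BT.new_case`;
`C_G(P) = P` is a hypothesis here)
-/

set_option autoImplicit false
set_option linter.unusedVariables false
set_option linter.unusedSectionVars false
set_option linter.style.haveILetI false
open scoped ComplexConjugate
open Classical

namespace Cfsg.Agent.Lib.helper15.BT2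

open Cfsg.Agent.Lib.helper7 Cfsg.Agent.Lib.helper7.BR Cfsg.Agent.Lib.helper2 Cfsg.Agent.Lib.Helper25
  Cfsg.Agent.Lib.Helper29 Cfsg.Agent.Lib.helper15.BH Cfsg.Agent.Lib.helper15.PSL
open Cfsg.Agent.Lib.Helper13.BT

universe u

variable {G : Type u} [Group G] [Fintype G] {p : ℕ} [Fact p.Prime]

/-- `PB3` with `2 f + 1 = p` gives `PB0` -/
theorem bt2nc_pb0 {P : Sylow p G} {f : ℕ} {X Y : Finset (Cfsg.IrrCharacter G)}
    {a : Cfsg.IrrCharacter G → ℤ} {ε : ℤ} (hB : PB3 p f P X Y a ε) (hpf : 2 * f + 1 = p)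
    (hf1 : 1 ≤ f) : PB0 p f (P : Subgroup G) X Y a ε :=
  { cardX := hB.cardX
    cardY := by
      have h1 := hB.cardY
      have h2 : p - 1 = 2 * f := by omega
      rw [h2] at h1
      exact Nat.eq_of_mul_eq_mul_right (by omega) h1
    disj := hB.disj
    triv_mem := hB.triv_mem
    a_pm := hB.a_pm
    valX := hB.valX
    eps_pm := hB.eps_pm
    sumP := hB.sumP
    sumY := hB.sumY
    rel := hB.rel
    agree := hB.agree }

/-- the sign of the principal character -/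
theorem bt2nc_a_triv {P : Sylow p G} (hP : Nat.card ↥(P : Subgroup G) = p) {f : ℕ}
    {X Y : Finset (Cfsg.IrrCharacter G)} {a : Cfsg.IrrCharacter G → ℤ} {ε : ℤ}
    (hB0 : PB0 p f (P : Subgroup G) X Y a ε) : a (trivIrr G) = 1 := by
  have hp : p.Prime := Fact.out
  obtain ⟨x, hx1⟩ : ∃ x : ↥(P : Subgroup G), x ≠ 1 := by
    have hcardP : 1 < Nat.card ↥(P : Subgroup G) := by rw [hP]; exact hp.one_lt
    haveI : Nontrivial ↥(P : Subgroup G) := (Finite.one_lt_card_iff_nontrivial).mp hcardP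
    exact exists_ne (1 : ↥(P : Subgroup G))
  have hord : orderOf x = p := by
    have h1 : orderOf x ∣ p := by
      have h0 : orderOf x ∣ Nat.card ↥(P : Subgroup G) := orderOf_dvd_natCard x
      rwa [hP] at h0
    rcases (Nat.dvd_prime hp).mp h1 with h | h
    · exact absurd (orderOf_eq_one_iff.mp h) hx1
    · exact h
  have hsing : p ∣ orderOf (x : G) := by
    rw [Subgroup.orderOf_coe, hord]
  have h := hB0.valX (trivIrr G) hB0.triv_mem (x : G) hsing
  rw [trivIrr_apply] at h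
  exact_mod_cast h.symm

/-- the case `f = 2` (`p = 5`) : the degrees -/
theorem bt2nc_five {P : Sylow p G} (hP : Nat.card ↥(P : Subgroup G) = p)
    {X Y : Finset (Cfsg.IrrCharacter G)} {a : Cfsg.IrrCharacter G → ℤ}
    (hB0 : PB0 p 2 (P : Subgroup G) X Y a (-1)) (hp5 : p = 5) (θ : Cfsg.IrrCharacter G) (hθ : θ ∈ Y)
    (hθ1 : leoDeg θ = 3) :
    (∀ ξ ∈ X, a ξ = -1 → leoDeg ξ + 1 = p) ∧ (∀ ξ ∈ X, a ξ = 1 → ξ ≠ trivIrr G → leoDeg ξ = p + 1) := by
  have hp : p.Prime := Fact.out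
  have ha0 := bt2nc_a_triv hP hB0
  -- the relation at `1`
  have hreg : ¬ p ∣ orderOf (1 : G) := by
    rw [orderOf_one]
    intro h
    have := Nat.le_of_dvd one_pos h
    have := hp.two_le
    omega
  have hrel := hB0.rel θ hθ 1 hreg
  have hrelZ : ∑ ξ ∈ X, a ξ * (leoDeg ξ : ℤ) = -3 := by
    have h1 : ((∑ ξ ∈ X, a ξ * (leoDeg ξ : ℤ) : ℤ) : ℂ) = ((-3 : ℤ) : ℂ) := by
      push_cast
      rw [show (-3 : ℂ) = ((-1 : ℤ) : ℂ) * (θ : G → ℂ) 1 by rw [leoDeg_spec, hθ1]; push_cast; ring, hrel]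
      apply Finset.sum_congr rfl
      intro ξ _
      rw [leoDeg_spec]
    exact_mod_cast h1
  rw [← Finset.add_sum_erase X _ hB0.triv_mem, ha0, bt2_leoDeg_triv] at hrelZ
  have hcard1 : (X.erase (trivIrr G)).card = 1 := by
    rw [Finset.card_erase_of_mem hB0.triv_mem, hB0.cardX]
  obtain ⟨ξ0, hξ0⟩ := Finset.card_eq_one.mp hcard1
  rw [hξ0, Finset.sum_singleton] at hrelZ
  have hξ0X : ξ0 ∈ X := by
    have : ξ0 ∈ X.erase (trivIrr G) := by rw [hξ0]; exact Finset.mem_singleton_self _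
    exact Finset.mem_of_mem_erase this
  have hall : ∀ ξ ∈ X, ξ ≠ trivIrr G → ξ = ξ0 := by
    intro ξ hξ hne
    have : ξ ∈ X.erase (trivIrr G) := Finset.mem_erase.mpr ⟨hne, hξ⟩
    rw [hξ0] at this
    exact Finset.mem_singleton.mp this
  have hfacts : a ξ0 = -1 ∧ leoDeg ξ0 = 4 := by
    rcases hB0.a_pm ξ0 hξ0X with h | h
    · exfalso
      rw [h] at hrelZ
      have : (0 : ℤ) ≤ (leoDeg ξ0 : ℤ) := Int.natCast_nonneg _
      omega
    · refine ⟨h, ?_⟩
      rw [h] at hrelZ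
      omega
  constructor
  · intro ξ hξ hm
    have hne : ξ ≠ trivIrr G := by
      intro h
      rw [h, ha0] at hm
      omega
    rw [hall ξ hξ hne, hfacts.2, hp5]
  · intro ξ hξ h1 hne
    exfalso
    rw [hall ξ hξ hne, hfacts.1] at h1
    omega

/-- the new case of project BT along the route `bt2_main` + `btkey_simple` -/
theorem bt2_new_case [IsSimpleGroup G] (hnc : ¬ ∀ x y : G, x * y = y * x) {P : Sylow p G}
    (hP : Nat.card ↥(P : Subgroup G) = p) {f : ℕ} (hrel : (Cfsg.Agent.Lib.helper7.BR.cen P).relIndex (Cfsg.Agent.Lib.helper7.BR.nrm P) = f)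
    {X Y : Finset (Cfsg.IrrCharacter G)} {a : Cfsg.IrrCharacter G → ℤ}
    (hB : PB3 p f P X Y a (-1)) (hpf : 2 * f + 1 = p) (hf2 : 2 ≤ f) (c : ℕ) (hfc : f = 2 ^ c) (b : ℕ)
    (hcard : Nat.card G = p * 2 ^ b * (f + 1))
    (hdegY : ∀ η ∈ Y, leoDeg η = f + 1) (hcen : Cfsg.Agent.Lib.helper7.BR.cen P = (P : Subgroup G)) : Nat.card G < p ^ 3 := by
  haveI : Fintype (Cfsg.IrrCharacter G) := Fintype.ofFinite _
  have hncyc : ¬ IsCyclic G := by
    intro hcyc
    apply hnc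
    intro x y
    obtain ⟨g, hg⟩ := hcyc.exists_generator
    obtain ⟨m, rfl⟩ := Subgroup.mem_zpowers_iff.mp (hg x)
    obtain ⟨n, rfl⟩ := Subgroup.mem_zpowers_iff.mp (hg y)
    rw [← zpow_add, ← zpow_add, add_comm]
  have hB0 := bt2nc_pb0 hB hpf (by omega)
  have hcenc : Nat.card ↥(Cfsg.Agent.Lib.helper7.BR.cen P) = p := by rw [hcen, hP]
  obtain ⟨θ, hθ⟩ : Y.Nonempty := by
    rw [← Finset.card_pos, hB0.cardY]; norm_num
  have hc1 : 1 ≤ c := by
    rcases Nat.eq_zero_or_pos c with h | h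
    · rw [h] at hfc; omega
    · exact h
  have hord : Nat.card G = p * (2 * f) * (f + 1) := by
    by_cases hc2 : 2 ≤ c
    · exact bt23_order hncyc P hP hpf hrel hcenc hB0 θ hθ (hdegY θ hθ) hfc hc2 hcard
    · have hc : c = 1 := by omega
      have hf : f = 2 := by rw [hfc, hc]; norm_num
      subst hf
      have hp5 : p = 5 := by omega
      obtain ⟨hdm, hdp⟩ := bt2nc_five hP hB0 hp5 θ hθ (hdegY θ hθ)
      exact Cfsg.Agent.Lib.Helper22.btkey_simple hncyc P hP hpf hrel hcenc hB0 rfl hdegY hdm hdp hfc hc1 hcard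
  rw [hord, ← hpf]
  nlinarith [sq_nonneg f]

end Cfsg.Agent.Lib.helper15.BT2
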